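import Groth.Agent.Comodule.PrimUnip
import Groth.Agent.Comodule.Extra
import Groth.Agent.HopfFF.Coinv
import Groth.Agent.Kolchin.Basic
import Mathlib.RingTheory.Jacobson.Ring

/-! Further closure properties of unipotent groups. -/

set_option autoImplicit false
set_option backward.isDefEq.respectTransparency false
universe u v w

open TensorProduct WithConv

noncomputable section

namespace Groth.Agent.UnipH7

open Groth.Agent.Comodule

variable {k : Type u} [Field k]

lemma eq_zero_of_forall_algHom [IsAlgClosed k] {A : Type v} [CommRing A]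
    [Algebra k A] [Algebra.FiniteType k A] [IsReduced A] (a : A) (h : ∀ g : A →ₐ[k] k, g a = 0) :
    a = 0 := by
  haveI : IsJacobsonRing A := isJacobsonRing_of_finiteType (A := k)
  have h1 : a ∈ Ideal.jacobson (⊥ : Ideal A) := by
    refine Submodule.mem_sInf.2 fun (m : Ideal A) hm => ?_
    obtain ⟨-, hm⟩ := hm
    haveI : m.IsMaximal := hm
    letI : Field (A ⧸ m) := Ideal.Quotient.field m
    haveI : Module.Finite k (A ⧸ m) := finite_of_finite_type_of_isJacobsonRing k (A ⧸ m)
    haveI : Algebra.IsIntegral k (A ⧸ m) := Algebra.IsIntegral.of_finite k _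
    let e : k ≃ₐ[k] A ⧸ m :=
      AlgEquiv.ofBijective (Algebra.ofId k _) IsAlgClosed.algebraMap_bijective_of_isIntegral
    have := h (e.symm.toAlgHom.comp (Ideal.Quotient.mkₐ k m))
    exact Ideal.Quotient.eq_zero_iff_mem.1
      (e.symm.injective (this.trans (map_zero e.symm).symm))
  rw [← Ideal.radical_eq_jacobson] at h1
  exact IsReduced.eq_zero a (mem_nilradical.1 h1)

/-- A nonzero vector of some step of the filtration gives a nonzero fixed vector. -/
lemma fixedPts_ne_bot {A : Type v} [CommRing A] [Bialgebra k A] {V : Type w} [AddCommGroup V] [Module k V]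
    [HopfRep.Comod k A V] : ∀ (n : ℕ) (v : V), v ≠ 0 → v ∈ fil k A V n → HopfRep.fixedPts k A V ≠ ⊥ := by
  intro n
  induction n with
  | zero =>
    intro v hv hn
    rw [fil_zero, Submodule.mem_bot] at hn
    exact absurd hn hv
  | succ n ih =>
    intro v hv hn hfix
    by_cases h : ∃ f : WithConv (A →ₗ[k] k), f.ofConv 1 = 0 ∧ f • v ≠ 0
    · obtain ⟨f, hf, hfv⟩ := h
      exact ih (f • v) hfv (mem_fil_succ.mp hn f hf) hfix
    · push Not at h
      have h1 : v ∈ HopfRep.fixedPts k A V := by
        rw [← fil_one, mem_fil_succ]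
        intro f hf
        rw [fil_zero, Submodule.mem_bot]
        exact h f hf
      rw [hfix, Submodule.mem_bot] at h1
      exact hv h1

/-- A group-like element of a unipotent Hopf algebra is `1`. -/
lemma groupLike_eq_one {A : Type v} [CommRing A] [Bialgebra k A] (hA : ∀ a : A, ∃ n, a ∈ fil k A A n)
    {g : A} (hg : IsGroupLikeElem k g) : g = 1 := by
  have hsmul : ∀ f : WithConv (A →ₗ[k] k), f • g = f.ofConv g • g := fun f => by
    rw [smul_def, dact, LinearMap.comp_apply, coact_regular, hg.comul_eq_tmul_self, rcon_tmul]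
  have h1 : ∀ f : WithConv (A →ₗ[k] k), f.ofConv 1 = 0 → f.ofConv g = 0 := by
    intro f hf
    by_contra hne
    obtain ⟨n, hn⟩ := hA g
    have : ∀ m, g ∈ fil k A A m → g = 0 := by
      intro m
      induction m with
      | zero => intro h; rwa [fil_zero, Submodule.mem_bot] at h
      | succ m ih =>
        intro h
        refine ih ?_
        have h2 := mem_fil_succ.mp h f hf
        rw [hsmul] at h2
        simpa [smul_smul, inv_mul_cancel₀ hne] using Submodule.smul_mem _ (f.ofConv g)⁻¹ h2
    exact hne (by rw [this n hn, map_zero])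
  have h2 : g ∈ HopfRep.fixedPts k A A := by
    rw [← fil_one, mem_fil_succ]
    intro f hf
    rw [fil_zero, Submodule.mem_bot, hsmul, h1 f hf, zero_smul]
  rw [fixedPts_regular, Submodule.mem_span_singleton] at h2
  obtain ⟨c, hc⟩ := h2
  have h3 : Coalgebra.counit (R := k) g = 1 := hg.counit_eq_one
  rw [← hc, map_smul, Bialgebra.counit_one, smul_eq_mul, mul_one] at h3
  rw [← hc, h3, one_smul]

/-- Points acting unipotently force a fixed vector. -/
lemma fixedPts_ne_bot_of_points [IsAlgClosed k] {A : Type v} [CommRing A] [Bialgebra k A]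
    [Algebra.FiniteType k A] [IsReduced A] {V : Type w} [AddCommGroup V] [Module k V] [HopfRep.Comod k A V]
    [Module.Finite k V] [Nontrivial V]
    (h : ∀ g : A →ₐ[k] k, IsNilpotent (HopfRep.Comod.act k A V g - 1)) :
    HopfRep.fixedPts k A V ≠ ⊥ := by
  let ρ : WithConv (A →ₐ[k] k) →* Module.End k V :=
    { toFun := fun g => dact g.ofConv.toLinearMap
      map_one' := LinearMap.ext fun v => by
        rw [Module.End.one_apply]
        refine Eq.trans (congrArg (fun f => dact f v) ?_) (dact_one (C := A) v)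
        refine LinearMap.ext fun a => ?_
        simp [AlgHom.convOne_def, LinearMap.convOne_def]
      map_mul' := fun g g' => LinearMap.ext fun v => by
        rw [Module.End.mul_apply, ← dact_mul]
        refine congrArg (fun f => dact f v) (LinearMap.ext fun a => ?_)
        simp only [AlgHom.toLinearMap_apply, AlgHom.convMul_apply, LinearMap.convMul_apply, WithConv.ofConv_toConv]
        induction Coalgebra.comul (R := k) a with
        | zero => simp
        | add p q hp hq => simp only [map_add, hp, hq]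
        | tmul p q => simp }
  obtain ⟨v, hv0, hv⟩ := Groth.Agent.Kolchin.exists_fixed ρ fun g => h g.ofConv
  have hfix : v ∈ HopfRep.fixedPts k A V := by
    show HopfRep.Comod.coact (k := k) (A := A) v = v ⊗ₜ[k] (1 : A)
    refine ext_lcon fun φ => sub_eq_zero.mp (eq_zero_of_forall_algHom (k := k) _ fun g => ?_)
    have key : ∀ z : V ⊗[k] A, g (lcon φ z) = φ (rcon g.toLinearMap z) := by
      intro z
      induction z with
      | zero => simp
      | add p q hp hq => simp only [map_add, hp, hq]
      | tmul p q => simp [mul_comm]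
    have hg := hv (toConv g)
    change dact g.toLinearMap v = v at hg
    rw [dact, LinearMap.comp_apply] at hg
    rw [map_sub, key, key, hg, rcon_tmul, AlgHom.toLinearMap_apply, map_one, one_smul, sub_self]
  intro hbot
  rw [hbot, Submodule.mem_bot] at hfix
  exact hv0 hfix

/-- Unipotence passes to quotient groups. -/
lemma fil_of_injective {A C : Type v} [CommRing A] [Bialgebra k A] [CommRing C] [Bialgebra k C]
    (ψ : C →ₐc[k] A) (hψ : Function.Injective ψ) :
    ∀ {n : ℕ} {c : C}, ψ c ∈ fil k A A n → c ∈ fil k C C n := by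
  intro n
  induction n with
  | zero =>
    intro c hc
    rw [fil_zero, Submodule.mem_bot] at hc ⊢
    exact hψ (hc.trans (map_zero ψ).symm)
  | succ n ih =>
    intro c hc
    refine mem_fil_succ.mpr fun f hf => ih ?_
    obtain ⟨l, hl⟩ := (ψ.toLinearMap : C →ₗ[k] A).exists_leftInverse_of_injective (LinearMap.ker_eq_bot.mpr hψ)
    have hl' : ∀ x, l (ψ x) = x := fun x => LinearMap.congr_fun hl x
    set F : C →ₗ[k] A := ψ.toLinearMap with hF
    have h1 : ψ (f • c) = toConv (f.ofConv ∘ₗ l) • ψ c := by
      rw [smul_def, smul_def, dact, dact, LinearMap.comp_apply, LinearMap.comp_apply, coact_regular, coact_regular]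
      have h2 : TensorProduct.map F F (Coalgebra.comul (R := k) c) = Coalgebra.comul (R := k) (ψ c) :=
        CoalgHomClass.map_comp_comul_apply ψ c
      rw [← h2]
      clear h2
      induction Coalgebra.comul (R := k) c with
      | zero => simp
      | add p q hp hq => simp only [map_add, hp, hq]
      | tmul p q =>
        simp only [rcon_tmul, TensorProduct.map_tmul, WithConv.ofConv_toConv, LinearMap.comp_apply, map_smul]
        exact congrArg₂ (· • ·) (congrArg f.ofConv (hl' q).symm) rfl
    rw [h1]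
    refine mem_fil_succ.mp hc _ ?_
    rw [WithConv.ofConv_toConv, LinearMap.comp_apply, show l 1 = 1 by rw [← map_one ψ, hl']]
    exact hf

/-- Unipotence of an extension. -/
lemma unipotent_extension {A C : Type v} [CommRing A] [HopfAlgebra k A] [CommRing C] [HopfAlgebra k C]
    (ψ : C →ₐc[k] A) (J : Ideal A) [J.IsHopfIdeal k]
    (hJ : J = Ideal.map (ψ : C →+* A) (RingHom.ker (Bialgebra.counitAlgHom k C)))
    (hC : HopfRep.IsUnipotent k C) (hN : HopfRep.IsUnipotent k (A ⧸ J)) : HopfRep.IsUnipotent k A := by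
  intro V _ _ cV hfin hnt
  let π : A →ₐc[k] A ⧸ J := Bialgebra.Quotient.mkBialgHom (R := k) J
  obtain ⟨v, hv, hv0⟩ : ∃ v, v ∈ (letI := pushComod V (π : A →ₗc[k] A ⧸ J); HopfRep.fixedPts k (A ⧸ J) V) ∧ v ≠ 0 :=
    Submodule.exists_mem_ne_zero_of_ne_bot (letI := pushComod V (π : A →ₗc[k] A ⧸ J); hN V hfin hnt)
  have hv' : (π : A →ₐ[k] A ⧸ J).toLinearMap.lTensor V (HopfRep.Comod.coact (k := k) (A := A) v) =
      v ⊗ₜ[k] (1 : A ⧸ J) := hv
  have hmem : ∀ φ : V →ₗ[k] k, ∃ c, ψ c = coefMap (C := A) φ v := by
    intro φ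
    have h : coefMap (C := A) φ v ∈ (ψ : C →ₐ[k] A).range := by
      refine HopfFF.mem_of_right_coinv (HopfFF.isHopfSub_range ψ) (I := J) ?_ ?_
      · rw [hJ, Ideal.map_le_iff_le_comap]
        intro c hc
        exact Ideal.subset_span ⟨⟨c, rfl⟩, (CoalgHomClass.counit_comp_apply ψ c).trans hc⟩
      · refine ext_rcon fun f => ?_
        rw [rcon_lTensor, rcon_tmul]
        have h1 : toConv (f ∘ₗ (π : A →ₐ[k] A ⧸ J).toLinearMap) • v = f 1 • v := by
          rw [smul_def, dact, LinearMap.comp_apply, WithConv.ofConv_toConv, ← rcon_lTensor, hv', rcon_tmul]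
        have h2 := (coefMap (C := A) φ).map_smul (toConv (f ∘ₗ (π : A →ₐ[k] A ⧸ J).toLinearMap)) v
        rw [h1] at h2
        rw [LinearMap.map_smul_of_tower (coefMap (C := A) φ) (f 1) v] at h2
        exact h2.symm
    exact h
  choose c hc using hmem
  have hC' := isUnipotent_iff_fil.mp hC
  let b := Module.finBasis k V
  choose N hN' using fun i => hC' (c (b.coord i))
  refine fixedPts_ne_bot (Finset.univ.sup N) v hv0 (mem_fil_iff_coefMap.mpr fun φ => ?_)
  have h2 : ∀ i, coefMap (C := A) (b.coord i) v ∈ fil k A A (Finset.univ.sup N) := fun i => by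
    rw [← hc]
    exact fil_mono (Finset.le_sup (Finset.mem_univ i)) (fil_map ψ (hN' i))
  have hφ : φ = ∑ i, φ (b i) • b.coord i := (b.sum_dual_apply_smul_coord φ).symm
  have h3 : ∀ y : V ⊗[k] A, lcon φ y = ∑ i, φ (b i) • lcon (b.coord i) y := by
    intro y
    induction y with
    | zero => simp
    | add p q hp hq => simp only [map_add, hp, hq, smul_add, Finset.sum_add_distrib]
    | tmul p q =>
      simp only [lcon_tmul, smul_smul, ← Finset.sum_smul]
      conv_lhs => rw [hφ]
      simp only [LinearMap.sum_apply, LinearMap.smul_apply, smul_eq_mul]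
  rw [coefMap_apply, h3]
  exact Submodule.sum_mem _ fun i _ => Submodule.smul_mem _ _ (coefMap_apply (C := A) (b.coord i) v ▸ h2 i)

/-- One step of a flag. -/
lemma exists_step {A : Type v} [CommRing A] [Bialgebra k A] (hU : HopfRep.IsUnipotent k A) {V : Type v}
    [AddCommGroup V] [Module k V] [HopfRep.Comod k A V] [Module.Finite k V]
    (N : Submodule k V) (hN : HopfRep.IsSubcomod (k := k) (A := A) N) (hne : N ≠ ⊤) :
    ∃ N', HopfRep.IsSubcomod (k := k) (A := A) N' ∧ N ≤ N' ∧
      (Module.finrank k N' = Module.finrank k N + 1 ∧ ∀ v ∈ N',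
        HopfRep.Comod.coact (k := k) (A := A) v - v ⊗ₜ[k] (1 : A) ∈ LinearMap.range (N.subtype.rTensor A)) := by
  letI := quotComod N hN
  haveI : Nontrivial (V ⧸ N) := Submodule.Quotient.nontrivial_iff.mpr hne
  obtain ⟨x, hx, hx0⟩ := Submodule.exists_mem_ne_zero_of_ne_bot (hU (V ⧸ N) inferInstance inferInstance)
  have hle : Submodule.span k {x} ≤ HopfRep.fixedPts k A (V ⧸ N) := by
    rw [Submodule.span_le, Set.singleton_subset_iff]
    exact hx
  have hsub : HopfRep.IsSubcomod (k := k) (A := A) (Submodule.span k {x}) := fun y hy =>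
    ⟨(⟨y, hy⟩ : Submodule.span k {x}) ⊗ₜ[k] (1 : A), by
      rw [LinearMap.rTensor_tmul]
      exact (show HopfRep.Comod.coact (k := k) (A := A) y = y ⊗ₜ[k] (1 : A) from hle hy).symm⟩
  refine ⟨(Submodule.span k {x}).comap N.mkQ, isSubcomod_comap_mkQ hN hsub, fun y hy => ?_, ?_, fun v hv => ?_⟩
  · rw [Submodule.mem_comap, Submodule.mkQ_apply, (Submodule.Quotient.mk_eq_zero N).mpr hy]
    exact zero_mem _
  · rw [finrank_comap_mkQ, finrank_span_singleton hx0, add_comm]
  · refine mem_range_rTensor_iff.mpr fun f => ?_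
    have h2 : N.mkQ.rTensor A (HopfRep.Comod.coact (k := k) (A := A) v) = N.mkQ v ⊗ₜ[k] (1 : A) := hle hv
    rw [← Submodule.Quotient.mk_eq_zero N, ← Submodule.mkQ_apply, ← rcon_rTensor, map_sub, h2,
      LinearMap.rTensor_tmul, sub_self, map_zero]

lemma exists_flag {A : Type v} [CommRing A] [Bialgebra k A] (hU : HopfRep.IsUnipotent k A) (V : Type v)
    [AddCommGroup V] [Module k V] [HopfRep.Comod k A V] [Module.Finite k V] :
    ∃ F : ℕ → Submodule k V, Monotone F ∧ F 0 = ⊥ ∧ (∀ i, HopfRep.IsSubcomod (k := k) (A := A) (F i)) ∧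
      (∀ i, i ≤ Module.finrank k V → Module.finrank k (F i) = i) ∧
      ∀ i, i < Module.finrank k V → ∀ v ∈ F (i + 1),
        HopfRep.Comod.coact (k := k) (A := A) v - v ⊗ₜ[k] (1 : A) ∈ LinearMap.range ((F i).subtype.rTensor A) := by
  obtain ⟨F, hmono, h0, hsub, hstep⟩ := exists_chain (k := k) (A := A) (V := V)
    (fun N N' => Module.finrank k N' = Module.finrank k N + 1 ∧ ∀ v ∈ N',
      HopfRep.Comod.coact (k := k) (A := A) v - v ⊗ₜ[k] (1 : A) ∈ LinearMap.range (N.subtype.rTensor A))
    fun N hN hne => exists_step hU N hN hne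
  have hrk : ∀ i, i ≤ Module.finrank k V → Module.finrank k (F i) = i := by
    intro i hi
    induction i with
    | zero => rw [h0, finrank_bot]
    | succ i ih =>
      rcases hstep i with ⟨htop, -⟩ | ⟨-, h, -⟩
      · have := ih (by omega)
        rw [htop, finrank_top] at this
        omega
      · rw [h, ih (by omega)]
  refine ⟨F, hmono, h0, hsub, hrk, fun i hi v hv => ?_⟩
  rcases hstep i with ⟨htop, -⟩ | ⟨-, -, h⟩
  · have := hrk i (by omega)
    rw [htop, finrank_top] at this
    omega
  · exact h v hv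

end Groth.Agent.UnipH7
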